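import Groth.Prelude.Def_Found
import Groth.Agent.Nagata.Basic
import Mathlib.RingTheory.LocalRing.ResidueField.Fiber
import Mathlib.RingTheory.Jacobson.Ring
import Mathlib.RingTheory.Ideal.GoingUp
import Mathlib.RingTheory.Ideal.KrullsHeightTheorem
import Mathlib.RingTheory.IntegralClosure.IntegrallyClosed
import Mathlib.RingTheory.TensorProduct.Finite
import Mathlib.RingTheory.Localization.InvSubmonoid
import Mathlib.RingTheory.FiniteStability

/-!
# Normal curves over a Nagata ring through a given specialization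
-/

universe u

set_option linter.style.haveILetI false

open scoped TensorProduct

namespace Groth.Agent.NagCurve

/-- In a domain, a prime of height at most one has no proper nonzero prime below it. -/
theorem eq_bot_of_lt_of_height_le_one {R : Type u} [CommRing R] [IsDomain R] [IsNoetherianRing R] {p q : Ideal R}
    [p.IsPrime] [q.IsPrime] (hp : p.height ≤ 1) (h : q < p) : q = ⊥ :=
  Ideal.height_eq_zero_iff_eq_bot.1 (ENat.lt_one_iff_eq_zero.1
    ((Ideal.height_strict_mono_of_isPrime h).trans_le hp))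

/-- The normal affine curve attached to a point of a finite extension of the residue field of `q`,
a specialization `y₀` of `q` of relative height at most one whose proper specializations all
contain `f`, and finitely many elements of the field. -/
theorem exists_curve_field {A L : Type u} [CommRing A] (hA : CAlg.IsNagata A) (q y₀ : Ideal A) [q.IsPrime]
    [y₀.IsPrime] (hlt : q < y₀) (hht : (y₀.map (Ideal.Quotient.mk q)).height ≤ 1) (f : A) (hf : f ∉ y₀)
    (hf' : ∀ P : Ideal A, P.IsPrime → y₀ < P → f ∈ P) [Field L] [Algebra A L] [Algebra q.ResidueField L]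
    [IsScalarTower A q.ResidueField L]
    [FiniteDimensional q.ResidueField L] {B : Type u} [CommRing B] [Algebra A B] [Algebra.FiniteType A B]
    (β : B →ₐ[A] L) :
    ∃ (C : Type u) (_ : CommRing C) (_ : IsDomain C) (_ : IsIntegrallyClosed C) (_ : Algebra A C)
      (_ : Algebra.FiniteType A C) (M : Ideal C) (_ : M.IsMaximal),
      M.comap (algebraMap A C) = y₀ ∧ M.height = 1 ∧
      ∃ s ∈ M, s ≠ 0 ∧ (∀ Q : Ideal C, Q.IsPrime → s ∈ Q → Q = M) ∧
        ∃ ψ : B →ₐ[A] Localization.Away s, RingHom.ker β ≤ RingHom.ker ψ := by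
  classical
  haveI := hA.1
  let R := A ⧸ q
  letI : Algebra R L := ((algebraMap q.ResidueField L).comp (algebraMap R q.ResidueField)).toAlgebra
  haveI : IsScalarTower R q.ResidueField L := IsScalarTower.of_algebraMap_eq fun _ => rfl
  haveI : IsScalarTower A R L := IsScalarTower.of_algebraMap_eq fun x => by
    rw [RingHom.algebraMap_toAlgebra, RingHom.comp_apply, ← IsScalarTower.algebraMap_apply A R q.ResidueField,
      ← IsScalarTower.algebraMap_apply A q.ResidueField L]
  let π : A →+* R := Ideal.Quotient.mk q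
  have hπ : Function.Surjective π := Ideal.Quotient.mk_surjective
  let C₀ := integralClosure R L
  haveI hfin : Module.Finite R C₀ := Nagata.finite_closure_of_frac (hA.2 q) q.ResidueField L
  haveI : IsFractionRing C₀ L := integralClosure.isFractionRing_of_finite_extension q.ResidueField L
  haveI : IsIntegrallyClosed C₀ := integralClosure.isIntegrallyClosedOfFiniteExtension q.ResidueField
  haveI : Module.Finite A R := Module.Finite.of_surjective (Algebra.linearMap A R) hπ
  haveI : Module.Finite A C₀ := Module.Finite.trans R C₀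
  haveI : IsNoetherianRing C₀ := IsNoetherianRing.of_finite A C₀
  have hinjL : Function.Injective (algebraMap R L) := by
    rw [IsScalarTower.algebraMap_eq R q.ResidueField L]
    exact (algebraMap q.ResidueField L).injective.comp (IsFractionRing.injective R q.ResidueField)
  have hinj : Function.Injective (algebraMap R C₀) := fun a b h => hinjL (congrArg Subtype.val h)
  have hker : RingHom.ker π ≤ y₀ := by rw [Ideal.mk_ker]; exact hlt.le
  let y₁ : Ideal R := y₀.map π
  haveI : y₁.IsPrime := Ideal.map_isPrime_of_surjective hπ hker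
  have hy₁ : y₁.comap π = y₀ := by
    rw [Ideal.comap_map_of_surjective π hπ, ← RingHom.ker_eq_comap_bot, sup_eq_left.mpr hker]
  have hy₁0 : y₁ ≠ ⊥ := fun h => hlt.not_ge (by
    have := Ideal.map_eq_bot_iff_le_ker π |>.1 h
    rwa [Ideal.mk_ker] at this)
  obtain ⟨M, hMp, hMc⟩ := Ideal.exists_ideal_over_prime_of_isIntegral_of_isDomain (S := C₀) y₁
    (by rw [(RingHom.injective_iff_ker_eq_bot _).1 hinj]; exact bot_le)
  haveI := hMp
  have hM0 : M ≠ ⊥ := fun h => hy₁0 (by
    rw [← hMc, h]
    exact (RingHom.ker_eq_comap_bot _).symm.trans ((RingHom.injective_iff_ker_eq_bot _).1 hinj))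
  have hlow : ∀ Q : Ideal C₀, Q.IsPrime → Q < M → Q = ⊥ := fun Q hQ hQM => by
    haveI := hQ
    refine Ideal.IsIntegral.eq_bot_of_comap_eq_bot R (eq_bot_of_lt_of_height_le_one hht ?_)
    exact lt_of_lt_of_eq (Ideal.IsIntegral.comap_lt_comap hQM) hMc
  -- the element `s`
  obtain ⟨G, hG⟩ := ‹Algebra.FiniteType A B›.out
  obtain ⟨d, hd⟩ := IsLocalization.exist_integer_multiples_of_finset (nonZeroDivisors C₀) (G.image β)
  obtain ⟨c, hcM, hc0⟩ := (Submodule.ne_bot_iff _).1 hM0
  let s₀ : C₀ := d * c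
  have hs₀ : s₀ ≠ 0 := mul_ne_zero (nonZeroDivisors.ne_zero d.2) hc0
  have hs₀M : s₀ ∈ M := M.mul_mem_left _ hcM
  -- the element `t`
  have hex : ∀ Q ∈ ((Ideal.span {s₀}).minimalPrimes : Set (Ideal C₀)) \ {M}, ∃ t ∈ Q, t ∉ M := by
    rintro Q ⟨hQ, hQM⟩
    haveI := hQ.1.1
    refine SetLike.not_le_iff_exists.1 fun hle => ?_
    have := hlow Q hQ.1.1 (lt_of_le_of_ne hle hQM)
    exact hs₀ (Ideal.mem_bot.1 (this ▸ hQ.1.2 (Ideal.mem_span_singleton_self s₀)))
  choose tQ htQ htQM using hex
  have hfinQ : (((Ideal.span {s₀}).minimalPrimes : Set (Ideal C₀)) \ {M}).Finite :=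
    (Ideal.finite_minimalPrimes_of_isNoetherianRing C₀ _).subset Set.sdiff_subset
  let tf : C₀ := algebraMap A C₀ f
  let t : C₀ := tf * ∏ Q ∈ hfinQ.toFinset.attach, tQ Q.1 (hfinQ.mem_toFinset.1 Q.2)
  have htM : t ∉ M := by
    refine hMp.mul_notMem ?_ ?_
    · intro h
      apply hf
      rw [← hy₁, ← hMc]
      show algebraMap R C₀ (algebraMap A R f) ∈ M
      rw [← IsScalarTower.algebraMap_apply]
      exact h
    · rw [hMp.prod_mem_iff]
      rintro ⟨Q, -, hQ⟩
      exact htQM _ _ hQ
  have ht0 : t ≠ 0 := fun h => htM (h ▸ M.zero_mem)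
  let C := Localization.Away t
  have hpow : Submonoid.powers t ≤ nonZeroDivisors C₀ :=
    powers_le_nonZeroDivisors_of_noZeroDivisors ht0
  haveI : IsDomain C := IsLocalization.isDomain_localization hpow
  haveI : IsIntegrallyClosed C := isIntegrallyClosed_of_isLocalization C (Submonoid.powers t) hpow
  haveI : Algebra.FiniteType C₀ C := IsLocalization.finiteType_of_monoid_fg (Submonoid.powers t) C
  haveI : Algebra.FiniteType A C := Algebra.FiniteType.trans (S := C₀) inferInstance inferInstance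
  have hdis : Disjoint (Submonoid.powers t : Set C₀) M :=
    (Ideal.disjoint_powers_iff_notMem_of_isPrime t).2 htM
  let MC : Ideal C := M.map (algebraMap C₀ C)
  haveI hMCp : MC.IsPrime := IsLocalization.isPrime_of_isPrime_disjoint (Submonoid.powers t) C M hMp hdis
  have hMCc : MC.comap (algebraMap C₀ C) = M :=
    IsLocalization.comap_map_of_isPrime_disjoint (Submonoid.powers t) C hMp hdis
  let s : C := algebraMap C₀ C s₀
  have hsM : s ∈ MC := Ideal.mem_map_of_mem _ hs₀M
  have hCinj : Function.Injective (algebraMap C₀ C) := IsLocalization.injective C hpow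
  have hs0 : s ≠ 0 := fun h => hs₀ (hCinj (h.trans (map_zero _).symm))
  have huniq : ∀ Q : Ideal C, Q.IsPrime → s ∈ Q → Q = MC := fun Q hQ hsQ => by
    haveI := hQ
    obtain ⟨hQc, htQc⟩ : (Q.comap (algebraMap C₀ C)).IsPrime ∧ t ∉ Q.comap (algebraMap C₀ C) :=
      ⟨inferInstance, fun h => hQ.ne_top (Q.eq_top_of_isUnit_mem h
        (IsLocalization.Away.algebraMap_isUnit (S := C) t))⟩
    obtain ⟨Q₁, hQ₁, hQ₁le⟩ := Ideal.exists_minimalPrimes_le (I := Ideal.span {s₀})
      (J := Q.comap (algebraMap C₀ C)) (by rw [Ideal.span_singleton_le_iff_mem]; exact hsQ)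
    have hQ₁M : Q₁ = M := by
      by_contra hne
      apply htQc
      refine Ideal.mul_mem_left _ _ (hQ₁le ?_)
      exact Ideal.prod_mem (s := hfinQ.toFinset.attach)
        (f := fun Q => tQ Q.1 (hfinQ.mem_toFinset.1 Q.2)) Q₁
        (Finset.mem_attach _ ⟨Q₁, hfinQ.mem_toFinset.2 ⟨hQ₁, hne⟩⟩) (htQ Q₁ ⟨hQ₁, hne⟩)
    rcases (hQ₁M ▸ hQ₁le : M ≤ Q.comap (algebraMap C₀ C)).lt_or_eq with hlt' | heq
    · refine absurd (Ideal.mul_mem_right _ _ ?_) htQc
      have h1 := Ideal.IsIntegral.comap_lt_comap (R := R) hlt'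
      rw [hMc] at h1
      show algebraMap A C₀ f ∈ Q.comap (algebraMap C₀ C)
      rw [IsScalarTower.algebraMap_apply A R C₀]
      show π f ∈ (Q.comap (algebraMap C₀ C)).comap (algebraMap R C₀)
      refine hf' (((Q.comap (algebraMap C₀ C)).comap (algebraMap R C₀)).comap π) inferInstance ?_
      exact lt_of_eq_of_lt hy₁.symm (lt_of_le_of_ne (Ideal.comap_mono h1.le) fun he =>
        h1.ne (Ideal.comap_injective_of_surjective π hπ he))
    · show Q = M.map (algebraMap C₀ C)
      rw [heq, IsLocalization.map_comap (Submonoid.powers t) C]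
  haveI hMCm : MC.IsMaximal := by
    obtain ⟨N, hN, hle⟩ := Ideal.exists_le_maximal MC hMCp.ne_top
    exact huniq N hN.isPrime (hle hsM) ▸ hN
  have hMC1 : MC.height = 1 := by
    refine le_antisymm (Ideal.height_le_iff.2 fun Q hQ hQM => ?_) (ENat.one_le_iff_ne_zero.2 fun h => ?_)
    · haveI := hQ
      have hQ0 : Q = ⊥ := by
        have h1 : Q.comap (algebraMap C₀ C) < M := lt_of_le_of_ne ((Ideal.comap_mono hQM.le).trans hMCc.le)
          fun he => hQM.ne (by
            have h2 : (Q.comap (algebraMap C₀ C)).map (algebraMap C₀ C) = Q :=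
              IsLocalization.map_comap (Submonoid.powers t) C Q
            rw [← h2, he])
        have h2 : (Q.comap (algebraMap C₀ C)).map (algebraMap C₀ C) = Q :=
          IsLocalization.map_comap (Submonoid.powers t) C Q
        rw [← h2, hlow _ inferInstance h1, Ideal.map_bot]
      rw [hQ0, Ideal.height_eq_zero_iff_eq_bot.2 rfl]
      exact zero_lt_one
    · exact hs0 (Ideal.mem_bot.1 (Ideal.height_eq_zero_iff_eq_bot.1 h ▸ hsM))
  refine ⟨C, inferInstance, inferInstance, inferInstance, inferInstance, inferInstance, MC, hMCm, ?_, hMC1,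
    s, hsM, hs0, huniq, ?_⟩
  · rw [IsScalarTower.algebraMap_eq A C₀ C, ← Ideal.comap_comap, hMCc, IsScalarTower.algebraMap_eq A R C₀,
      ← Ideal.comap_comap, hMc]
    exact hy₁
  -- the map to `C[1/s]`
  let D := Localization.Away s
  haveI : IsDomain D := IsLocalization.isDomain_localization (powers_le_nonZeroDivisors_of_noZeroDivisors hs0)
  have hu : ∀ y : Submonoid.powers t, IsUnit (algebraMap C₀ L (y : C₀)) := fun y =>
    IsUnit.mk0 _ (IsFractionRing.to_map_ne_zero_of_mem_nonZeroDivisors (hpow y.2))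
  let i₁ : C →ₐ[A] L := IsLocalization.liftAlgHom (f := IsScalarTower.toAlgHom A C₀ L) hu
  have hi₁ : Function.Injective i₁ := by
    show Function.Injective (IsLocalization.lift hu : C →+* L)
    rw [IsLocalization.lift_injective_iff]
    exact fun x y => ⟨fun h => congrArg (algebraMap C₀ L) (hCinj h),
      fun h => congrArg (algebraMap C₀ C) (IsFractionRing.injective C₀ L h)⟩
  have hu₂ : ∀ y : Submonoid.powers s, IsUnit (i₁ (y : C)) := fun y => by
    obtain ⟨_, n, rfl⟩ := y
    exact IsUnit.mk0 _ ((map_pow i₁ s n).trans_ne (pow_ne_zero _ ((map_ne_zero_iff i₁ hi₁).2 hs0)))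
  let i₂ : D →ₐ[A] L := IsLocalization.liftAlgHom (f := i₁) hu₂
  have hi₂ : Function.Injective i₂ := by
    show Function.Injective (IsLocalization.lift hu₂ : D →+* L)
    rw [IsLocalization.lift_injective_iff]
    exact fun x y => ⟨fun h => congrArg i₁
        (IsLocalization.injective D (powers_le_nonZeroDivisors_of_noZeroDivisors hs0) h),
      fun h => congrArg (algebraMap C D) (hi₁ h)⟩
  have hrange : β.range ≤ i₂.range := by
    rw [← Algebra.map_top, ← hG, AlgHom.map_adjoin, Algebra.adjoin_le_iff]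
    rintro _ ⟨g, hg, rfl⟩
    obtain ⟨n, hn⟩ := hd (β g) (Finset.mem_image_of_mem β hg)
    have hsu : IsUnit (algebraMap C D s) := IsLocalization.Away.algebraMap_isUnit s
    refine ⟨algebraMap C D (algebraMap C₀ C (n * c)) * (↑hsu.unit⁻¹ : D), ?_⟩
    have h1 : ∀ x : C₀, i₂ (algebraMap C D (algebraMap C₀ C x)) = algebraMap C₀ L x := fun x => by
      show IsLocalization.lift hu₂ (algebraMap C D (algebraMap C₀ C x)) = _
      rw [IsLocalization.lift_eq]
      exact IsLocalization.lift_eq hu x
    have h2 : i₂ (algebraMap C D s) ≠ 0 := (map_ne_zero_iff i₂ hi₂).2 hsu.ne_zero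
    show i₂ _ = β g
    apply mul_left_cancel₀ h2
    rw [← map_mul, mul_left_comm, IsUnit.mul_val_inv, mul_one, h1, h1, map_mul, hn]
    show (d : C₀) • β g * algebraMap C₀ L c = algebraMap C₀ L (↑d * c) * β g
    rw [Algebra.smul_def, map_mul]
    ring
  let e := AlgEquiv.ofInjective i₂ hi₂
  refine ⟨e.symm.toAlgHom.comp ((Subalgebra.inclusion hrange).comp β.rangeRestrict), fun b hb => ?_⟩
  show e.symm (Subalgebra.inclusion hrange (β.rangeRestrict b)) = 0
  rw [show β.rangeRestrict b = 0 from Subtype.ext hb, map_zero, map_zero]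

/-- The normal affine curve through a specialization, attached to a point over the generic end. -/
theorem exists_curve {A B : Type u} [CommRing A] [CommRing B] [Algebra A B] [Algebra.FiniteType A B]
    (hA : CAlg.IsNagata A) (q y₀ : Ideal A) [q.IsPrime] [y₀.IsPrime] (hlt : q < y₀)
    (hht : (y₀.map (Ideal.Quotient.mk q)).height ≤ 1) (f : A) (hf : f ∉ y₀)
    (hf' : ∀ P : Ideal A, P.IsPrime → y₀ < P → f ∈ P) (P : Ideal B) [P.IsPrime]
    (hP : P.comap (algebraMap A B) = q) :
    ∃ (C : Type u) (_ : CommRing C) (_ : IsDomain C) (_ : IsIntegrallyClosed C) (_ : Algebra A C)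
      (_ : Algebra.FiniteType A C) (M : Ideal C) (_ : M.IsMaximal),
      M.comap (algebraMap A C) = y₀ ∧ M.height = 1 ∧
      ∃ s ∈ M, s ≠ 0 ∧ (∀ Q : Ideal C, Q.IsPrime → s ∈ Q → Q = M) ∧
        ∃ ψ : B →ₐ[A] Localization.Away s, P ≤ RingHom.ker ψ := by
  let e := PrimeSpectrum.preimageEquivFiber A B ⟨q, inferInstance⟩
  let P' : PrimeSpectrum (q.Fiber B) := e ⟨⟨P, inferInstance⟩, PrimeSpectrum.ext hP⟩
  have hP' : P'.asIdeal.comap Algebra.TensorProduct.includeRight.toRingHom = P :=
    congrArg (fun x => x.1.asIdeal) (e.symm_apply_apply ⟨⟨P, inferInstance⟩, PrimeSpectrum.ext hP⟩)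
  obtain ⟨N, hN, hle⟩ := Ideal.exists_le_maximal P'.asIdeal P'.2.ne_top
  haveI := hN
  letI : Field (q.Fiber B ⧸ N) := Ideal.Quotient.field N
  haveI : Algebra.FiniteType q.ResidueField (q.Fiber B) :=
    inferInstanceAs (Algebra.FiniteType q.ResidueField (q.ResidueField ⊗[A] B))
  haveI : Algebra.FiniteType q.ResidueField (q.Fiber B ⧸ N) :=
    Algebra.FiniteType.of_surjective (Ideal.Quotient.mkₐ q.ResidueField N) Ideal.Quotient.mk_surjective
  haveI : FiniteDimensional q.ResidueField (q.Fiber B ⧸ N) := finite_of_finite_type_of_isJacobsonRing _ _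
  obtain ⟨C, i1, i2, i3, i4, i5, M, hM, h1, h2, s, hsM, hs, hu, ψ, hψ⟩ :=
    exists_curve_field hA q y₀ hlt hht f hf hf'
      ((Ideal.Quotient.mkₐ A N).comp (Algebra.TensorProduct.includeRight : B →ₐ[A] q.Fiber B))
  refine ⟨C, i1, i2, i3, i4, i5, M, hM, h1, h2, s, hsM, hs, hu, ψ, fun b hb => hψ ?_⟩
  rw [← hP'] at hb
  exact Ideal.Quotient.eq_zero_iff_mem.2 (hle hb)

end Groth.Agent.NagCurve
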