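import Groth.Agent.ValLib.AnCrit

/-!
# Universally closed morphisms of schemes tested on affine spaces
-/

universe u

open CategoryTheory CategoryTheory.Limits AlgebraicGeometry

namespace Groth.Agent.NagCurve

open _root_.AlgSp Groth.Agent.AlgSpLib

/-- A quasi-compact morphism is universally closed as soon as its base changes to all affine spaces
over the target are closed maps. -/
theorem universallyClosed_of_affineSpace {X Y : Scheme.{u}} (f : X ⟶ Y) [QuasiCompact f]
    (H : ∀ n : ℕ, IsClosedMap (pullback.snd f (𝔸(ULift.{u} (Fin n); Y) ↘ Y))) :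
    UniversallyClosed f := by
  let Xo : Over Y := Over.mk f
  let Yo : Over Y := Over.mk (𝟙 Y)
  let φ : Xo ⟶ Yo := Over.homMk f (Category.comp_id f)
  have hX : IsAlgSpace ((yon Y).obj Xo) := IsAlgSpace.yon_obj _
  have hY : IsAlgSpace ((yon Y).obj Yo) := IsAlgSpace.yon_obj _
  have hr : Representable ((yon Y).map φ) := representable_yon_map φ
  have hqc : IsQuasiCompactMor ((yon Y).map φ) :=
    (isQuasiCompactMor_iff_repWith hX hY hr).2 ((repWith_yon_iff φ).2 (inferInstanceAs (QuasiCompact f)))
  have hpe : RepWith @Etale ((yon Y).map (𝟙 Yo)) := (repWith_yon_iff _).2 (inferInstanceAs (Etale (𝟙 Y)))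
  have hps : RepWith @Surjective ((yon Y).map (𝟙 Yo)) :=
    (repWith_yon_iff _).2 (inferInstanceAs (Surjective (𝟙 Y)))
  have huc : IsUnivClosedMor ((yon Y).map φ) := by
    refine ValLib.isUnivClosedMor_of_affineSpace hX hY _ hqc hpe hps fun n P fst snd sq => ?_
    rw [← Functor.map_comp] at sq
    let a : 𝔸(ULift.{u} (Fin n); Y) ⟶ Y := 𝔸(ULift.{u} (Fin n); Y) ↘ Y
    let W : Over Y := Over.mk (pullback.fst f a ≫ f)
    let p₁ : W ⟶ Xo := Over.homMk (pullback.fst f a) rfl
    let p₂ : W ⟶ Over.mk (a ≫ 𝟙 Y) := Over.homMk (pullback.snd f a) (by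
      show pullback.snd f a ≫ a ≫ 𝟙 Y = pullback.fst f a ≫ f
      rw [Category.comp_id]
      exact pullback.condition.symm)
    have sq' : IsPullback ((yon Y).map p₁) ((yon Y).map p₂) ((yon Y).map φ)
        ((yon Y).map ((Over.homMk a rfl : Over.mk (a ≫ 𝟙 Y) ⟶ Yo) ≫ 𝟙 Yo)) :=
      isPullback_yon_iff.2 (by
        simp only [Category.comp_id]
        exact IsPullback.of_hasPullback f a)
    have hcl : IsClosedMap (Points.map ((yon Y).map p₂)) := (isClosedMap_map_yon_iff p₂).2 (H n)
    let e := sq.isoIsPullback _ _ sq'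
    rw [← IsPullback.isoIsPullback_hom_snd _ _ sq sq',
      show Points.map (e.hom ≫ (yon Y).map p₂) = Points.map ((yon Y).map p₂) ∘ Points.map e.hom from
        funext fun x => Points.map_comp _ _ x]
    exact hcl.comp (isHomeomorph_map_of_isIso e.hom).isClosedMap
  exact (repWith_yon_iff φ).1 ((isUnivClosedMor_iff_repWith hr).1 huc)

end Groth.Agent.NagCurve
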