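import Groth.Agent.NagCurve.Algebra
import Groth.Agent.NagCurve.Univ
import Groth.Agent.Nagata.Japanese
import Groth.Agent.Nagata.Scheme
import Groth.Agent.JacLib.Basic
import Groth.Agent.ConsSet.Basic
import Groth.Agent.LocH.Avoid

/-!
# Closedness tested on normal curves over a Nagata base
-/

universe u

set_option linter.style.haveILetI false
set_option backward.isDefEq.respectTransparency false

open CategoryTheory CategoryTheory.Limits AlgebraicGeometry TopologicalSpace

namespace Groth.Agent.NagCurve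

variable {S X Y : Scheme.{u}}

/-- Existence of lifts for punctured normal curves of finite type over the base. -/
def CurveLift (q : Y ⟶ S) (f : X ⟶ Y) : Prop :=
      ∀ (C : Scheme.{u}) (r : C ⟶ S) [IsIntegral C] [LocallyOfFiniteType r] [QuasiCompact r],
        (∀ x : C, IsIntegrallyClosed (C.presheaf.stalk x)) →
        ∀ (c : C), IsClosed ({c} : Set C) → ringKrullDim (C.presheaf.stalk c) = 1 →
        ∀ (U : C.Opens), (U : Set C) = {c}ᶜ →
        ∀ (u : (U : Scheme.{u}) ⟶ X) (g : C ⟶ Y), g ≫ q = r → u ≫ f = U.ι ≫ g →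
        ∀ (k : Spec (CommRingCat.of (FractionRing (C.presheaf.stalk c))) ⟶ (U : Scheme.{u})),
          k ≫ U.ι = Spec.map (CommRingCat.ofHom (algebraMap (C.presheaf.stalk c)
            (FractionRing (C.presheaf.stalk c)))) ≫ C.fromSpecStalk c →
        ∃ l : Spec (C.presheaf.stalk c) ⟶ X, l ≫ f = C.fromSpecStalk c ≫ g ∧
          Spec.map (CommRingCat.ofHom (algebraMap (C.presheaf.stalk c) (FractionRing (C.presheaf.stalk c)))) ≫ l =
            k ≫ u

theorem isLocallyNoetherian_of_nagata (hS : ∀ W : S.affineOpens, CAlg.IsNagata Γ(S, W)) :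
    IsLocallyNoetherian S :=
  ⟨fun W => (hS W).1⟩

theorem isNagata_of_lft (hS : ∀ W : S.affineOpens, CAlg.IsNagata Γ(S, W)) (q : Y ⟶ S) [LocallyOfFiniteType q]
    {N : Y.Opens} (hN : IsAffineOpen N) {O : S.Opens} (hO : IsAffineOpen O) (h : N ≤ q ⁻¹ᵁ O) :
    CAlg.IsNagata Γ(Y, N) := by
  have hft := LocallyOfFiniteType.finiteType_appLE (f := q) hO hN h
  letI := (q.appLE O N h).hom.toAlgebra
  haveI : Algebra.FiniteType Γ(S, O) Γ(Y, N) := hft
  exact Nagata.isNagata_of_finiteType (hS ⟨O, hO⟩)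

/-- The lifting property passes to base change. -/
theorem CurveLift.baseChange {q : Y ⟶ S} {f : X ⟶ Y} (H : CurveLift q f) {Y' : Scheme.{u}} (a : Y' ⟶ Y) :
    CurveLift (a ≫ q) (pullback.snd f a) := by
  intro C r _ _ _ hn c hc hd U hU u g hg hu k hk
  obtain ⟨l, hl₁, hl₂⟩ := H C r hn c hc hd U hU (u ≫ pullback.fst f a) (g ≫ a)
    (by rw [Category.assoc, hg])
    (by rw [Category.assoc, pullback.condition, reassoc_of% hu]) k hk
  refine ⟨pullback.lift l (C.fromSpecStalk c ≫ g) (by rw [hl₁, Category.assoc]), pullback.lift_snd _ _ _, ?_⟩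
  refine pullback.hom_ext ?_ ?_
  · rw [Category.assoc, pullback.lift_fst, hl₂, Category.assoc]
  · rw [Category.assoc, pullback.lift_snd, Category.assoc, hu, reassoc_of% hk]

/-- In an integral scheme a point of one-dimensional local ring is not the generic point. -/
theorem frac_point_ne {C : Scheme.{u}} [IsIntegral C] {c : C} (hd : ringKrullDim (C.presheaf.stalk c) = 1)
    (z : Spec (CommRingCat.of (FractionRing (C.presheaf.stalk c)))) :
    (Spec.map (CommRingCat.ofHom (algebraMap (C.presheaf.stalk c) (FractionRing (C.presheaf.stalk c)))) ≫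
      C.fromSpecStalk c) z ≠ c := by
  intro h
  rw [Scheme.Hom.comp_apply] at h
  have h1 := congrArg PrimeSpectrum.asIdeal
    ((C.fromSpecStalk c).isEmbedding.injective (h.trans (C.fromSpecStalk_closedPoint (x := c)).symm))
  have h2 : z.asIdeal = ⊥ := (Ideal.eq_bot_or_top z.asIdeal).resolve_right z.2.ne_top
  have h3 : IsLocalRing.maximalIdeal (C.presheaf.stalk c) = ⊥ := by
    refine Eq.trans h1.symm ?_
    show z.asIdeal.comap (algebraMap (C.presheaf.stalk c) (FractionRing (C.presheaf.stalk c))) = ⊥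
    rw [h2, ← RingHom.ker_eq_comap_bot]
    exact (RingHom.injective_iff_ker_eq_bot _).1 (IsFractionRing.injective _ _)
  have h4 := ringKrullDim_eq_zero_of_isField (IsLocalRing.isField_iff_maximalIdeal_eq.2 h3)
  exact zero_ne_one (h4.symm.trans hd)

/-- Under the lifting property a quasi-compact morphism is a closed map. -/
theorem isClosedMap_of_curveLift (hS : ∀ W : S.affineOpens, CAlg.IsNagata Γ(S, W))
    (q : Y ⟶ S) [LocallyOfFiniteType q] (f : X ⟶ Y) [QuasiCompact f] [LocallyOfFiniteType f]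
    (H : CurveLift q f) : IsClosedMap f := by
  haveI := isLocallyNoetherian_of_nagata hS
  haveI : IsLocallyNoetherian Y := LocallyOfFiniteType.isLocallyNoetherian q
  haveI : IsLocallyNoetherian X := LocallyOfFiniteType.isLocallyNoetherian f
  rw [isClosedMap_iff_specializingMap, specializingMap_iff_closure_singleton f.continuous]
  intro x
  refine Set.Subset.antisymm (image_closure_subset_closure_image f.continuous |>.trans (by rw [Set.image_singleton])) ?_
  intro y hy
  have hxy : f x ⤳ y := specializes_iff_mem_closure.2 hy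
  obtain ⟨O, hO, hyO, -⟩ := exists_isAffineOpen_mem_and_subset (U := (⊤ : S.Opens)) (x := q y) trivial
  obtain ⟨N, hN, hyN, hNO⟩ := exists_isAffineOpen_mem_and_subset (U := q ⁻¹ᵁ O) (x := y) hyO
  have hA : CAlg.IsNagata Γ(Y, N) := isNagata_of_lft hS q hN hO hNO
  haveI := hA.1
  obtain ⟨py, rfl⟩ : y ∈ Set.range hN.fromSpec := hN.range_fromSpec ▸ hyN
  obtain ⟨p, hp⟩ : f x ∈ Set.range hN.fromSpec := hN.range_fromSpec ▸ hxy.mem_open N.2 hyN
  set W : Set (Spec Γ(Y, N)) := hN.fromSpec ⁻¹' (f '' closure {x}) with hW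
  have hWc : Topology.IsConstructible W := by
    have hfs : W = (pullback.snd f hN.fromSpec) '' ((pullback.fst f hN.fromSpec) ⁻¹' closure {x}) := by
      ext z
      constructor
      · rintro ⟨w, hw, hwz⟩
        obtain ⟨v, hv₁, hv₂⟩ := Scheme.Pullback.exists_preimage_pullback w z hwz
        exact ⟨v, (Set.mem_preimage.2 (hv₁.symm ▸ hw)), hv₂⟩
      · rintro ⟨v, hv, rfl⟩
        exact ⟨_, hv, by rw [← Scheme.Hom.comp_apply, pullback.condition, Scheme.Hom.comp_apply]⟩
    rw [hfs]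
    haveI : IsNoetherian (pullback f hN.fromSpec) :=
      { __ := LocallyOfFiniteType.isLocallyNoetherian (pullback.snd f hN.fromSpec) }
    haveI : LocallyOfFinitePresentation (pullback.snd f hN.fromSpec) :=
      LocallyOfFinitePresentation.iff_locallyOfFiniteType.2 inferInstance
    refine Scheme.Hom.isConstructible_image _ (Topology.IsConstructible.of_compl ?_)
    exact (NoetherianSpace.isCompact _).isConstructible
      (isClosed_closure.preimage (pullback.fst f hN.fromSpec).continuous).isOpen_compl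
  have hpW : p ∈ W := ⟨x, subset_closure rfl, hp.symm⟩
  have hppy : p ⤳ py := hN.fromSpec.isOpenEmbedding.isInducing.specializes_iff.1 (hp.symm ▸ hxy)
  show hN.fromSpec py ∈ f '' closure {x}
  by_contra hpy
  obtain ⟨n, L, hL, hWL⟩ := ConsSet.exists_lc_rep hWc.compl
  obtain ⟨i, hi⟩ := Set.mem_iUnion.1 (hWL.le (show py ∈ Wᶜ from hpy))
  obtain ⟨y₀, ⟨hy₀L, hpy₀⟩, hy₀⟩ := JacLib.exists_isLocallyClosed_singleton
    ((hL i).inter (isClosed_closure (s := ({p} : Set (Spec Γ(Y, N))))).isLocallyClosed)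
    ⟨py, hi, specializes_iff_mem_closure.1 hppy⟩
  have hy₀W : y₀ ∉ W := hWL.ge (Set.mem_iUnion.2 ⟨i, hy₀L⟩)
  obtain ⟨e, hey₀, hef⟩ := JacLib.exists_mem_of_isLocallyClosed (A := Γ(Y, N)) y₀ hy₀
  -- an element `a` with `D(a) ∩ V(p) ⊆ W`
  obtain ⟨n', L', hL', hWL'⟩ := ConsSet.exists_lc_rep hWc
  obtain ⟨Uo, hUo, hUW, hUd⟩ := ConsSet.exists_open_of_dense (Z := closure {p}) isIrreducible_singleton.closure L' hL'
    (closure_mono (Set.singleton_subset_iff.2 ⟨hWL'.le hpW, subset_closure rfl⟩))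
  rw [← hWL'] at hUW
  obtain ⟨v, hvU, hvp⟩ : (Uo ∩ closure {p}).Nonempty := by
    rw [Set.nonempty_iff_ne_empty]
    intro he
    rw [he, closure_empty] at hUd
    exact hUd (subset_closure rfl)
  have hpU : p ∈ Uo := (specializes_iff_mem_closure.2 hvp).mem_open hUo hvU
  obtain ⟨_, ⟨a, rfl⟩, hpa, haU⟩ :=
    PrimeSpectrum.isTopologicalBasis_basic_opens.exists_subset_of_mem_open hpU hUo
  have haW : ∀ z : PrimeSpectrum Γ(Y, N), p.asIdeal ≤ z.asIdeal → a ∉ z.asIdeal → z ∈ W := fun z hz haz =>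
    hUW ⟨haU haz, specializes_iff_mem_closure.1 ((PrimeSpectrum.le_iff_specializes p z).1 hz)⟩
  have hpy₀' : p.asIdeal ≤ y₀.asIdeal :=
    (PrimeSpectrum.le_iff_specializes p y₀).2 (specializes_iff_mem_closure.2 hpy₀)
  have hay₀ : a ∈ y₀.asIdeal := by
    by_contra h
    exact hy₀W (haW y₀ hpy₀' h)
  -- a prime `q₀` just below `y₀`
  obtain ⟨q₀, ⟨hq₀, hpq₀, hq₀y, haq₀⟩, hmax⟩ := wellFounded_gt.has_min
    {I : Ideal Γ(Y, N) | I.IsPrime ∧ p.asIdeal ≤ I ∧ I ≤ y₀.asIdeal ∧ a ∉ I}
    ⟨p.asIdeal, p.2, le_rfl, hpy₀', hpa⟩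
  haveI := hq₀
  have hlt : q₀ < y₀.asIdeal := lt_of_le_of_ne hq₀y fun h => haq₀ (h ▸ hay₀)
  have hht : (y₀.asIdeal.map (Ideal.Quotient.mk q₀)).height ≤ 1 := not_lt.1 fun hh => by
    obtain ⟨t, ht, hqt, hty, hat⟩ := LocH.exists_between q₀ y₀.asIdeal hq₀y hh hay₀ haq₀
    exact hmax t ⟨ht, hpq₀.trans hqt.le, hty.le, hat⟩ hqt
  obtain ⟨x', hx', hfx'⟩ := haW ⟨q₀, hq₀⟩ hpq₀ haq₀
  -- an affine neighbourhood of the point over `q₀`
  have hx'N : x' ∈ f ⁻¹ᵁ N := show f x' ∈ N by
    rw [hfx']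
    exact hN.range_fromSpec.le ⟨_, rfl⟩
  obtain ⟨X₁, hX₁, hx'₁, hX₁N⟩ := exists_isAffineOpen_mem_and_subset (U := f ⁻¹ᵁ N) hx'N
  have hft := LocallyOfFiniteType.finiteType_appLE (f := f) hN hX₁ hX₁N
  letI := (f.appLE N X₁ hX₁N).hom.toAlgebra
  haveI : Algebra.FiniteType Γ(Y, N) Γ(X, X₁) := hft
  let P := hX₁.primeIdealOf ⟨x', hx'₁⟩
  have hP : P.asIdeal.comap (algebraMap Γ(Y, N) Γ(X, X₁)) = q₀ := by
    have h1 : hN.fromSpec (Spec.map (f.appLE N X₁ hX₁N) P) = hN.fromSpec ⟨q₀, hq₀⟩ := by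
      rw [← Scheme.Hom.comp_apply, IsAffineOpen.SpecMap_appLE_fromSpec f hN hX₁ hX₁N, Scheme.Hom.comp_apply,
        hX₁.fromSpec_primeIdealOf]
      exact hfx'
    exact congrArg PrimeSpectrum.asIdeal (hN.fromSpec.isOpenEmbedding.injective h1)
  obtain ⟨C, iC, iD, iI, iA, iF, M, hM, hMy, hM1, s, hsM, hs0, hsu, ψ, hψ⟩ :=
    exists_curve hA q₀ y₀.asIdeal hlt hht e hey₀ (fun Q hQ h => hef ⟨Q, hQ⟩ h) P.asIdeal hP
  let Cs : Scheme.{u} := Spec (CommRingCat.of C)
  let c : Cs := ⟨M, hM.isPrime⟩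
  let φ : Γ(Y, N) ⟶ CommRingCat.of C := CommRingCat.ofHom (algebraMap Γ(Y, N) C)
  let g : Cs ⟶ Y := Spec.map φ ≫ hN.fromSpec
  haveI : LocallyOfFiniteType (Spec.map φ) := by
    rw [HasRingHomProperty.Spec_iff (P := @LocallyOfFiniteType)]
    exact RingHom.finiteType_algebraMap.2 iF
  haveI : IsDomain (CommRingCat.of C) := iD
  haveI : LocallyOfFiniteType (g ≫ q) := inferInstance
  haveI : QuasiCompact (g ≫ q) := quasiCompact_of_compactSpace _
  have hloc : ∀ z : Cs, IsIntegrallyClosed (Cs.presheaf.stalk z) := fun z => by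
    haveI := StructureSheaf.IsLocalization.to_stalk (R := C) z
    exact isIntegrallyClosed_of_isLocalization ((AlgebraicGeometry.Spec.structureSheaf C).presheaf.stalk z) z.asIdeal.primeCompl
      z.asIdeal.primeCompl_le_nonZeroDivisors
  have hd : ringKrullDim (Cs.presheaf.stalk c) = 1 := by
    haveI := StructureSheaf.IsLocalization.to_stalk (R := C) c
    refine (IsLocalization.AtPrime.ringKrullDim_eq_height c.asIdeal ((AlgebraicGeometry.Spec.structureSheaf C).presheaf.stalk c)).trans ?_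
    show (M.height : WithBot ℕ∞) = 1
    rw [hM1]
    rfl
  let U : Cs.Opens := PrimeSpectrum.basicOpen (R := C) s
  have hU : (U : Set Cs) = {c}ᶜ := by
    ext z
    show s ∉ z.asIdeal ↔ ¬ z = c
    exact ⟨fun h he => h (he ▸ hsM), fun h hs => h (PrimeSpectrum.ext (hsu z.asIdeal z.2 hs))⟩
  let ψ' : Γ(X, X₁) ⟶ CommRingCat.of (Localization.Away s) := CommRingCat.ofHom ψ.toRingHom
  let u : (U : Scheme.{u}) ⟶ X :=
    (basicOpenIsoSpecAway (R := CommRingCat.of C) s).hom ≫ Spec.map ψ' ≫ hX₁.fromSpec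
  have hu : u ≫ f = U.ι ≫ g := by
    simp only [u, g, Category.assoc]
    rw [← IsAffineOpen.SpecMap_appLE_fromSpec f hN hX₁ hX₁N, ← Spec.map_comp_assoc,
      ← basicOpenIsoSpecAway_hom_SpecMap_assoc (R := CommRingCat.of C) s, ← Spec.map_comp_assoc]
    refine congrArg (fun m => (basicOpenIsoSpecAway (R := CommRingCat.of C) s).hom ≫ Spec.map m ≫ hN.fromSpec) ?_
    exact CommRingCat.hom_ext (ψ.comp_algebraMap.trans (IsScalarTower.algebraMap_eq Γ(Y, N) C _))
  let m : Spec (CommRingCat.of (FractionRing (Cs.presheaf.stalk c))) ⟶ Cs :=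
    Spec.map (CommRingCat.ofHom (algebraMap (Cs.presheaf.stalk c) (FractionRing (Cs.presheaf.stalk c)))) ≫
      Cs.fromSpecStalk c
  have hm : Set.range m ⊆ Set.range U.ι := by
    rintro _ ⟨z, rfl⟩
    rw [Scheme.Opens.range_ι]
    exact hU.ge (frac_point_ne hd z)
  obtain ⟨l, hl₁, hl₂⟩ := H Cs (g ≫ q) hloc c
    ((PrimeSpectrum.isClosed_singleton_iff_isMaximal c).2 hM) hd U hU u g rfl hu
    (IsOpenImmersion.lift U.ι m hm) (IsOpenImmersion.lift_fac _ _ _)
  -- the image of the closed point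
  let z₀ : Spec (CommRingCat.of (FractionRing (Cs.presheaf.stalk c))) := default
  let w : Spec (CommRingCat.of (Localization.Away s)) :=
    (basicOpenIsoSpecAway (R := CommRingCat.of C) s).hom ((IsOpenImmersion.lift U.ι m hm) z₀)
  have h1 : x ⤳ hX₁.fromSpec (Spec.map ψ' w) := by
    refine (specializes_iff_mem_closure.2 hx').trans ?_
    rw [show x' = hX₁.fromSpec P from (hX₁.fromSpec_primeIdealOf ⟨x', hx'₁⟩).symm]
    refine Specializes.map ((PrimeSpectrum.le_iff_specializes _ _).1 ?_) hX₁.fromSpec.continuous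
    exact fun b hb => show ψ b ∈ w.asIdeal from (show ψ b = 0 from hψ hb) ▸ w.asIdeal.zero_mem
  have h2 : hX₁.fromSpec (Spec.map ψ' w) ⤳ l (IsLocalRing.closedPoint (Cs.presheaf.stalk c)) := by
    have := congrArg (fun t : Spec (CommRingCat.of (FractionRing (Cs.presheaf.stalk c))) ⟶ X => t z₀) hl₂
    simp only [u, Scheme.Hom.comp_apply] at this
    rw [← this]
    exact Specializes.map (IsLocalRing.specializes_closedPoint _) l.continuous
  refine hy₀W ⟨_, specializes_iff_mem_closure.1 (h1.trans h2), ?_⟩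
  rw [← Scheme.Hom.comp_apply, hl₁, Scheme.Hom.comp_apply, Scheme.fromSpecStalk_closedPoint]
  show hN.fromSpec (Spec.map φ c) = hN.fromSpec y₀
  exact congrArg hN.fromSpec (PrimeSpectrum.ext hMy)

/-- Under the lifting property a quasi-compact morphism is universally closed. -/
theorem universallyClosed_of_curveLift (hS : ∀ W : S.affineOpens, CAlg.IsNagata Γ(S, W))
    (q : Y ⟶ S) [LocallyOfFiniteType q] (f : X ⟶ Y) [QuasiCompact f] [LocallyOfFiniteType f]
    (H : CurveLift q f) : UniversallyClosed f :=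
  universallyClosed_of_affineSpace f fun n =>
    isClosedMap_of_curveLift hS ((𝔸(ULift.{u} (Fin n); Y) ↘ Y) ≫ q) _ (H.baseChange _)

/-- One-dimensional local rings of normal curves over the base are valuation rings. -/
theorem valuationRing_stalk (hS : ∀ W : S.affineOpens, CAlg.IsNagata Γ(S, W)) {C : Scheme.{u}} (r : C ⟶ S)
    [IsIntegral C] [LocallyOfFiniteType r] (hn : ∀ x : C, IsIntegrallyClosed (C.presheaf.stalk x)) (c : C)
    (hd : ringKrullDim (C.presheaf.stalk c) = 1) : ValuationRing (C.presheaf.stalk c) := by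
  haveI := isLocallyNoetherian_of_nagata hS
  haveI : IsLocallyNoetherian C := LocallyOfFiniteType.isLocallyNoetherian r
  haveI := hn c
  haveI : Ring.KrullDimLE 1 (C.presheaf.stalk c) := Ring.krullDimLE_iff.2 hd.le
  haveI : Ring.DimensionLEOne (C.presheaf.stalk c) :=
    ⟨fun {_} h0 hp => Ring.krullDimLE_one_iff_of_noZeroDivisors.1 inferInstance _ h0 hp⟩
  haveI : IsDedekindDomain (C.presheaf.stalk c) :=
    (isDedekindDomain_iff _ (FractionRing (C.presheaf.stalk c))).2
      ⟨inferInstance, inferInstance, inferInstance, (isIntegrallyClosed_iff _).1 inferInstance⟩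
  infer_instance

/-- Universally closed morphisms have the lifting property. -/
theorem curveLift_of_universallyClosed (hS : ∀ W : S.affineOpens, CAlg.IsNagata Γ(S, W))
    (q : Y ⟶ S) (f : X ⟶ Y) [UniversallyClosed f] : CurveLift q f := by
  intro C r _ _ _ hn c hc hd U hU u g hg hu k hk
  haveI := valuationRing_stalk hS r hn c hd
  have hex : ValuativeCriterion.Existence f :=
    ((UniversallyClosed.eq_valuativeCriterion ▸ (inferInstance : UniversallyClosed f) :
      (ValuativeCriterion.Existence ⊓ @QuasiCompact : MorphismProperty Scheme) f)).1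
  let T : ValuativeCommSq f :=
    ⟨C.presheaf.stalk c, FractionRing (C.presheaf.stalk c), k ≫ u, C.fromSpecStalk c ≫ g,
      ⟨by rw [Category.assoc, hu, reassoc_of% hk]⟩⟩
  obtain ⟨⟨l, hl, hl'⟩⟩ := (hex T).exists_lift
  exact ⟨l, hl', hl⟩

end Groth.Agent.NagCurve
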